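/-
Recognition of dihedral, semidihedral and quaternion groups inside metacyclic 2-groups, and the
shape of a homocyclic self-centralizing subgroup of such a group.

* `classify` : a self-centralizing non-cyclic proper subgroup with small squares forces maximal class
* `diff_isSquare` : an element normalizing a homocyclic subgroup acts trivially modulo squares
-/
import Cfsg.Agent.EqLemmas
import Cfsg.Agent.Lib.PGroup.CyclicMaximal
import Cfsg.Prelude.Def_CaseTheorems
import Cfsg.Prelude.Def_OddOrderLocal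
import Mathlib.GroupTheory.SpecificGroups.Quaternion

set_option autoImplicit false

namespace Cfsg.Agent.FusionMetaTwo

open Subgroup

/-- Dihedral of order at least 4, semidihedral, or generalized quaternion. -/
def MaxClassTwo (G : Type*) [Group G] : Prop :=
  (∃ n : ℕ, 2 ≤ n ∧ Nonempty (G ≃* DihedralGroup n)) ∨ Cfsg.IsQuasiDihedral G ∨
    ∃ n : ℕ, 2 ≤ n ∧ Nonempty (G ≃* QuaternionGroup n)

/-- A cyclic group has at most one involution. -/
theorem eq_of_sq_eq_one {Q : Type*} [Group Q] [Finite Q] [IsCyclic Q] {a b : Q} (ha : a ≠ 1)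
    (ha2 : a ^ 2 = 1) (hb : b ≠ 1) (hb2 : b ^ 2 = 1) : a = b := by
  classical
  by_contra hab
  cases nonempty_fintype Q
  have h1 := IsCyclic.card_pow_eq_one_le (α := Q) (n := 2) two_pos
  have h2 : ({1, a, b} : Finset Q) ⊆ Finset.univ.filter fun x => x ^ 2 = 1 := by
    intro x hx
    simp only [Finset.mem_insert, Finset.mem_singleton] at hx
    rcases hx with rfl | rfl | rfl <;> simp [ha2, hb2]
  have h3 := (Finset.card_le_card h2).trans h1
  rw [Finset.card_eq_three.2 ⟨1, a, b, Ne.symm ha, Ne.symm hb, hab, rfl⟩] at h3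
  omega

/-- In a cyclic group, an element whose order divides that of `a` lies in `⟨a⟩`. -/
theorem mem_zpowers_of_orderOf_dvd {Q : Type*} [Group Q] [Finite Q] [IsCyclic Q] {a b : Q}
    (h : orderOf b ∣ orderOf a) : b ∈ zpowers a := by
  classical
  cases nonempty_fintype Q
  have h1 := IsCyclic.card_pow_eq_one_le (α := Q) (n := orderOf a) (orderOf_pos a)
  have h2 : Finset.univ.filter (fun x => x ∈ zpowers a) ⊆
      Finset.univ.filter fun x : Q => x ^ orderOf a = 1 := by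
    intro x hx
    simp only [Finset.mem_filter, Finset.mem_univ, true_and] at hx ⊢
    exact orderOf_dvd_iff_pow_eq_one.1 (orderOf_dvd_of_mem_zpowers hx)
  have h3 : (Finset.univ.filter fun x => x ∈ zpowers a).card = orderOf a := by
    rw [← Nat.card_zpowers, Nat.card_eq_fintype_card]
    exact (Fintype.card_subtype _).symm
  have h4 := Finset.eq_of_subset_of_card_le h2 (by rw [h3]; exact h1)
  have h5 : b ∈ Finset.univ.filter fun x : Q => x ^ orderOf a = 1 := by
    simpa using orderOf_dvd_iff_pow_eq_one.1 h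
  rw [← h4] at h5
  simpa using h5

theorem le_total_zpowers {Q : Type*} [Group Q] [Finite Q] [IsCyclic Q] (hQ : IsPGroup 2 Q) (a b : Q) :
    a ∈ zpowers b ∨ b ∈ zpowers a := by
  obtain ⟨i, hi⟩ := hQ.exists_orderOf_eq_pow a
  obtain ⟨j, hj⟩ := hQ.exists_orderOf_eq_pow b
  rcases le_total i j with h | h
  · exact Or.inl (mem_zpowers_of_orderOf_dvd (hi ▸ hj ▸ Nat.pow_dvd_pow 2 h))
  · exact Or.inr (mem_zpowers_of_orderOf_dvd (hi ▸ hj ▸ Nat.pow_dvd_pow 2 h))

variable {G : Type*} [Group G] [Finite G]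

/-- A self-centralizing non-cyclic proper subgroup `R` with squares in `N` and central elements of
order at most 2 forces `G` to be of maximal class. -/
theorem classify' (hG : IsPGroup 2 G) (N : Subgroup G) [N.Normal] [IsCyclic N] [IsCyclic (G ⧸ N)]
    (R : Subgroup G) (hR : ¬ IsCyclic R) (hC : centralizer (R : Set G) ≤ R)
    (hsq : ∀ x ∈ R, x ^ 2 ∈ N) (hcen : ∀ x ∈ R, (∀ y ∈ R, y * x = x * y) → x ^ 2 = 1)
    (hne : R ≠ ⊤ ∨ ∃ u v : G, u * v ≠ v * u) : MaxClassTwo G := by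
  obtain ⟨y, hyR, hyN⟩ := SetLike.not_le_iff_exists.1 fun h : R ≤ N =>
    hR (isCyclic_of_injective (inclusion h) (inclusion_injective h))
  have hNc : ∀ u ∈ N, ∀ v ∈ N, u * v = v * u := fun u hu v hv =>
    congrArg Subtype.val (mul_comm' (⟨u, hu⟩ : N) ⟨v, hv⟩)
  -- the unique involution of the cyclic quotient
  have hy1 : ((y : G ⧸ N)) ≠ 1 := mt (QuotientGroup.eq_one_iff y).1 hyN
  have hy2 : ((y : G ⧸ N)) ^ 2 = 1 := by
    rw [← QuotientGroup.mk_pow, QuotientGroup.eq_one_iff]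
    exact hsq y hyR
  obtain ⟨g, hg⟩ := IsCyclic.exists_generator (α := G ⧸ N)
  obtain ⟨w, rfl⟩ := QuotientGroup.mk_surjective g
  have hRy : ∀ r ∈ R, r ∈ N ∨ y⁻¹ * r ∈ N := by
    intro r hr
    have hr2 : ((r : G ⧸ N)) ^ 2 = 1 := by
      rw [← QuotientGroup.mk_pow, QuotientGroup.eq_one_iff]
      exact hsq r hr
    by_cases hr1 : (r : G ⧸ N) = 1
    · exact Or.inl ((QuotientGroup.eq_one_iff r).1 hr1)
    · right
      rw [← QuotientGroup.eq_one_iff, QuotientGroup.mk_mul, QuotientGroup.mk_inv, inv_mul_eq_one]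
      exact eq_of_sq_eq_one hy1 hy2 hr1 hr2
  -- the centralizer of `y` in `N` has exponent 2
  have hfix : ∀ c ∈ N, y * c = c * y → c ^ 2 = 1 := by
    intro c hc hyc
    have hcc : ∀ r ∈ R, r * c = c * r := by
      intro r hr
      rcases hRy r hr with h | h
      · exact hNc r h c hc
      · calc r * c = y * (y⁻¹ * r * c) := by group
          _ = y * c * (y⁻¹ * r) := by rw [hNc _ h c hc]; group
          _ = c * r := by rw [hyc]; group
    exact hcen c (hC (mem_centralizer_iff.2 hcc)) hcc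
  obtain ⟨a', ha'⟩ := IsCyclic.exists_ofOrder_eq_natCard (α := N)
  obtain ⟨m, hm⟩ := (hG.to_subgroup N).exists_card_eq
  set a : G := (a' : G) with ha_def
  have ha : orderOf a = 2 ^ m := by rw [orderOf_coe, ha', hm]
  have hNa : zpowers a = N := eq_of_le_of_card_ge (zpowers_le.2 a'.2) (by rw [Nat.card_zpowers, ha, hm])
  by_cases hm1 : m ≤ 1
  · -- `N` is central
    exfalso
    have hcN : N ≤ center G := by
      intro c hc
      refine mem_center_iff.2 fun x => ?_
      by_cases hc1 : c = 1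
      · simp [hc1]
      have h2 : ∀ u : N, u ^ 2 = 1 := fun u => by
        refine orderOf_dvd_iff_pow_eq_one.1 ((orderOf_dvd_natCard u).trans ?_)
        rw [hm]
        exact (Nat.pow_dvd_pow 2 hm1).trans (pow_one 2).dvd
      have hconj : x * c * x⁻¹ ∈ N := ‹N.Normal›.conj_mem c hc x
      have : x * c * x⁻¹ = c := congrArg Subtype.val (eq_of_sq_eq_one
        (a := (⟨x * c * x⁻¹, hconj⟩ : N)) (b := ⟨c, hc⟩)
        (fun h => hc1 (conj_eq_one_iff.1 (congrArg Subtype.val h))) (h2 _)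
        (fun h => hc1 (congrArg Subtype.val h)) (h2 _))
      exact mul_inv_eq_iff_eq_mul.1 this
    have hab : ∀ u v : G, u * v = v * u :=
      commutative_of_cyclic_center_quotient (QuotientGroup.mk' N) (by rw [QuotientGroup.ker_mk']; exact hcN)
    rcases hne with hne | ⟨u, v, huv⟩
    · exact hne (eq_top_iff.2 fun x _ => hC (mem_centralizer_iff.2 fun r _ => hab r x))
    · exact huv (hab u v)
  -- `|G : N| = 2`
  have haN : a ∈ N := a'.2
  have hQ : ∀ q : G ⧸ N, q = 1 ∨ q = (y : G ⧸ N) := by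
    intro q
    by_contra hq
    push_neg at hq
    -- the class of `y` is a square
    obtain ⟨i, hi⟩ := mem_zpowers_iff.1 (hg (y : G ⧸ N))
    have heven : Even i := by
      rcases Int.even_or_odd i with h | ⟨k, hk⟩
      · exact h
      exfalso
      obtain ⟨j, hj⟩ := mem_zpowers_iff.1 (hg q)
      obtain ⟨s, hs⟩ := (hG.to_quotient N).exists_orderOf_eq_pow (w : G ⧸ N) |>.imp fun _ h => h
      have h2 : ((2 ^ s : ℕ) : ℤ) ∣ 2 * i := by
        rw [← hs, orderOf_dvd_iff_zpow_eq_one, mul_comm, zpow_mul, hi]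
        exact_mod_cast hy2
      have hs1 : s ≤ 1 := by
        by_contra hs2
        obtain ⟨t, rfl⟩ := Nat.exists_eq_add_of_le (show 2 ≤ s by omega)
        have h3 : (4 : ℤ) ∣ 2 * i := (Dvd.intro ((2 : ℤ) ^ t) (by push_cast; ring)).trans h2
        omega
      have hord : orderOf (w : G ⧸ N) ∣ 2 := hs ▸ (Nat.pow_dvd_pow 2 hs1).trans (pow_one 2).dvd
      have hw2 : (w : G ⧸ N) ^ 2 = 1 := orderOf_dvd_iff_pow_eq_one.1 hord
      have hq2 : q ^ 2 = 1 := by
        rw [← hj, ← zpow_natCast, ← zpow_mul, mul_comm, zpow_mul, zpow_natCast, hw2, one_zpow]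
      exact hq.2 (eq_of_sq_eq_one hy1 hy2 hq.1 hq2).symm
    obtain ⟨k, rfl⟩ := heven
    -- so `y` acts on `N` as a square and fixes an element of order 4
    have hd : (w ^ k * w ^ k)⁻¹ * y ∈ N := by
      rw [← QuotientGroup.eq_one_iff, QuotientGroup.mk_mul, QuotientGroup.mk_inv, inv_mul_eq_one,
        ← hi, ← zpow_add]
      simp
    set v := w ^ k
    obtain ⟨t, rfl⟩ := Nat.exists_eq_add_of_le (show 2 ≤ m by omega)
    have hc4 : orderOf (a ^ (2 ^ t)) = 4 := by
      rw [orderOf_pow, ha, Nat.gcd_eq_right (Dvd.intro_left _ (pow_add 2 2 t).symm), pow_add,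
        Nat.mul_div_cancel _ (by positivity)]
      norm_num
    set c := a ^ (2 ^ t)
    have hcN : c ∈ N := pow_mem haN _
    have hconj : ∀ u : G, u * c * u⁻¹ = c ∨ u * c * u⁻¹ = c⁻¹ := by
      intro u
      have h1 : u * c * u⁻¹ ∈ zpowers a := hNa ▸ ‹N.Normal›.conj_mem c hcN u
      obtain ⟨e, he⟩ := mem_zpowers_iff.1 h1
      have h4 : orderOf (u * c * u⁻¹) = 4 := by
        rw [← hc4]
        exact orderOf_injective (MulAut.conj u).toMonoidHom (MulEquiv.injective _) c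
      have hd1 : ((2 : ℤ) ^ t) ∣ e := by
        have : a ^ (e * 4) = 1 := by
          rw [zpow_mul, he]
          exact_mod_cast h4 ▸ pow_orderOf_eq_one (u * c * u⁻¹)
        rw [← orderOf_dvd_iff_zpow_eq_one, ha] at this
        push_cast at this
        rw [pow_add, show (2 : ℤ) ^ 2 = 4 by norm_num, mul_comm e 4] at this
        exact (mul_dvd_mul_iff_left (by norm_num : (4 : ℤ) ≠ 0)).1 this
      obtain ⟨f, rfl⟩ := hd1
      have he' : c ^ f = u * c * u⁻¹ := by
        rw [← he, zpow_mul]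
        exact congrArg (· ^ f) (by rw [show ((2 : ℤ) ^ t) = ((2 ^ t : ℕ) : ℤ) by push_cast; ring, zpow_natCast])
      have hodd : f % 4 = 1 ∨ f % 4 = 3 := by
        rcases Int.even_or_odd f with ⟨f', hf'⟩ | ⟨f', hf'⟩
        · exfalso
          have h2 : (u * c * u⁻¹) ^ 2 = 1 := by
            rw [← he', ← zpow_natCast, ← zpow_mul, ← orderOf_dvd_iff_zpow_eq_one, hc4]
            omega
          have := orderOf_dvd_of_pow_eq_one h2
          rw [h4] at this
          norm_num at this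
        · omega
      rcases hodd with h | h
      · left
        rw [← he', zpow_eq_zpow_iff_modEq.2 (show f ≡ 1 [ZMOD (orderOf c : ℤ)] by
          rw [hc4]; exact h), zpow_one]
      · right
        rw [← he', zpow_eq_zpow_iff_modEq.2 (show f ≡ -1 [ZMOD (orderOf c : ℤ)] by
          rw [hc4]; exact h), zpow_neg_one]
    have hv2 : v * v * c * (v * v)⁻¹ = c := by
      rw [show v * v * c * (v * v)⁻¹ = v * (v * c * v⁻¹) * v⁻¹ by group]
      rcases hconj v with h | h
      · rw [h, h]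
      · rw [h, ← conj_inv, h, inv_inv]
    have hyc : y * c = c * y := by
      set d := (v * v)⁻¹ * y
      have hy : y = v * v * d := by simp only [d]; group
      calc y * c = v * v * (d * c) := by rw [hy]; group
        _ = v * v * c * (v * v)⁻¹ * (v * v * d) := by rw [hNc d hd c hcN]; group
        _ = c * y := by rw [hv2, ← hy]
    have := orderOf_dvd_of_pow_eq_one (hfix c hcN hyc)
    rw [hc4] at this
    norm_num at this
  have hcard : Nat.card G = 2 * 2 ^ m := by
    rw [card_eq_card_quotient_mul_card_subgroup N, hm]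
    have : Nat.card (G ⧸ N) = 2 :=
      Nat.card_eq_two_iff.2 ⟨1, (y : G ⧸ N), fun h => hy1 h.symm, Set.eq_univ_of_forall fun q => by simpa using hQ q⟩
    rw [this]
  have hnc : ¬ Commute y a := fun h => by
    have := orderOf_dvd_of_pow_eq_one (hfix a haN h.eq)
    rw [ha] at this
    have h4 : 2 ^ 2 ∣ 2 := (Nat.pow_dvd_pow 2 (show 2 ≤ m by omega)).trans this
    norm_num at h4
  obtain ⟨hm2, i, hcase⟩ := PGroup.two_local (m := m) ha (hNa ▸ ‹N.Normal›.conj_mem a haN y)
    (hNa ▸ hsq y hyR) hnc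
  have hbA : y * a ^ i ∉ zpowers a := by
    rw [hNa]
    intro h
    exact hyN (by simpa using N.mul_mem h (N.inv_mem (N.zpow_mem haN i)))
  rcases hcase with ⟨h1, h2⟩ | ⟨h1, h2⟩ | ⟨h3, h1, h2⟩ | ⟨h3, h1, h2⟩
  · obtain ⟨e⟩ := PGroup.dihedralEquivOfGen (N := 2 ^ m) ha h1 h2 hbA hcard
    exact Or.inl ⟨2 ^ m, (Nat.le_self_pow (by omega) 2), ⟨e.symm⟩⟩
  · have hp : 2 ^ m = 2 * 2 ^ (m - 1) := by rw [← pow_succ']; congr 1; omega
    obtain ⟨e⟩ := PGroup.quaternionEquivOfGen (N := 2 ^ (m - 1)) (ha.trans hp) h1 h2 hbA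
      (by rw [hcard, hp]; ring)
    exact Or.inr (Or.inr ⟨_, Nat.le_self_pow (by omega) 2, ⟨e.symm⟩⟩)
  · exfalso
    have hc : y * a ^ 2 = a ^ 2 * y := by
      have h4 : (y * a ^ i) * a ^ 2 * (y * a ^ i)⁻¹ = a ^ 2 := by
        rw [← conj_pow, h2, ← pow_mul, show (1 + 2 ^ (m - 1)) * 2 = 2 + 2 ^ m by
          rw [add_mul, one_mul, ← pow_succ]; congr 2; omega, pow_add, ← ha, pow_orderOf_eq_one, mul_one]
      have h5 : y * a ^ 2 * y⁻¹ = a ^ 2 := by
        calc y * a ^ 2 * y⁻¹ = (y * a ^ i) * a ^ 2 * (y * a ^ i)⁻¹ := by group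
          _ = _ := h4
      exact mul_inv_eq_iff_eq_mul.1 h5
    have := hfix (a ^ 2) (pow_mem haN 2) hc
    rw [← pow_mul] at this
    have h4 : 2 ^ 3 ∣ 4 := (Nat.pow_dvd_pow 2 h3).trans (ha ▸ orderOf_dvd_of_pow_eq_one this)
    norm_num at h4
  · refine Or.inr (Or.inl ⟨m, h3, by rw [hcard, pow_succ'], a, y * a ^ i, ha,
      orderOf_eq_prime h1 fun h => hbA (h ▸ one_mem _), h2⟩)

theorem classify (hG : IsPGroup 2 G) (N : Subgroup G) [N.Normal] [IsCyclic N] [IsCyclic (G ⧸ N)]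
    (R : Subgroup G) (hR : ¬ IsCyclic R) (hC : centralizer (R : Set G) ≤ R)
    (hsq : ∀ x ∈ R, x ^ 2 ∈ N) (hcen : ∀ x ∈ R, (∀ y ∈ R, y * x = x * y) → x ^ 2 = 1)
    (hne : R ≠ ⊤) : MaxClassTwo G :=
  classify' hG N R hR hC hsq hcen (Or.inl hne)

/-- An element of order 2 modulo a homocyclic subgroup of exponent at least 4, with cyclic trace
on a cyclic normal subgroup with cyclic quotient, acts trivially modulo squares. -/
theorem diff_isSquare (hG : IsPGroup 2 G) (N : Subgroup G) [N.Normal] [IsCyclic N]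
    [IsCyclic (G ⧸ N)] {R : Subgroup G} (hab : ∀ x ∈ R, ∀ y ∈ R, x * y = y * x) {n : ℕ} (hn : 2 ≤ n)
    (hexp : ∀ x ∈ R, x ^ (2 ^ n) = 1) (hcard : Nat.card R = 2 ^ n * 2 ^ n)
    {t : G} (ht : t ∈ normalizer (R : Set G)) (ht2 : t ^ 2 ∈ R) {r : G} (hr : r ∈ R) :
    ∃ s ∈ R, s ^ 2 = r⁻¹ * (t * r * t⁻¹) := by
  let φ : R →* G ⧸ N := (QuotientGroup.mk' N).comp R.subtype
  set D := φ.ker
  have hDN : ∀ d : R, d ∈ D ↔ (d : G) ∈ N := fun d => by
    rw [MonoidHom.mem_ker]; exact QuotientGroup.eq_one_iff (d : G)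
  haveI : IsCyclic D := isCyclic_of_injective
    ((R.subtype.comp D.subtype).codRestrict N fun d => (hDN d.1).1 d.2)
    fun a b h => Subtype.ext (Subtype.ext (congrArg (fun z : N => (z : G)) h))
  have hexp' : ∀ x : R, x ^ (2 ^ n) = 1 := fun x => Subtype.ext (hexp x x.2)
  have hdvd : 2 ^ n ∣ Nat.card D := by
    have h1 : Nat.card φ.range ∣ 2 ^ n := by
      obtain ⟨g, hg⟩ := IsCyclic.exists_ofOrder_eq_natCard (α := φ.range)
      obtain ⟨⟨x, rfl⟩⟩ : Nonempty {x : R // φ.rangeRestrict x = g} := by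
        obtain ⟨x, hx⟩ := φ.rangeRestrict_surjective g
        exact ⟨⟨x, hx⟩⟩
      rw [← hg]
      exact orderOf_dvd_of_pow_eq_one (by rw [← map_pow, hexp', map_one])
    obtain ⟨c, hc⟩ := h1
    have h2 : Nat.card D * Nat.card φ.range = 2 ^ n * 2 ^ n := by
      rw [← hcard, ← index_ker φ]; exact card_mul_index _
    rw [hc] at h2 ⊢
    exact ⟨c, Nat.eq_of_mul_eq_mul_right Nat.card_pos (by rw [h2]; ring)⟩
  have hconjR : ∀ x ∈ R, t * x * t⁻¹ ∈ R := fun x hx => (mem_normalizer_iff.1 ht x).1 hx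
  set t' : G ⧸ N := (t : G ⧸ N)
  by_cases htR : t' ∈ R.map (QuotientGroup.mk' N)
  · -- `t` acts as an element of `N`
    obtain ⟨r₀, hr₀, hrt⟩ := htR
    have hc : r₀⁻¹ * t ∈ N := by
      rw [← QuotientGroup.eq_one_iff, QuotientGroup.mk_mul, QuotientGroup.mk_inv, inv_mul_eq_one]
      exact hrt
    have hfix : ∀ d ∈ R, d ∈ N → t * d * t⁻¹ = d := by
      intro d hd hdN
      calc t * d * t⁻¹ = r₀ * ((r₀⁻¹ * t) * d) * (r₀⁻¹ * t)⁻¹ * r₀⁻¹ := by group
        _ = r₀ * d * r₀⁻¹ := by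
            rw [show r₀⁻¹ * t * d = d * (r₀⁻¹ * t) from congrArg Subtype.val (mul_comm' (⟨_, hc⟩ : N) ⟨d, hdN⟩)]; group
        _ = d := by rw [hab r₀ hr₀ d hd]; group
    set δ : G := r⁻¹ * (t * r * t⁻¹)
    have hδR : δ ∈ R := R.mul_mem (R.inv_mem hr) (hconjR r hr)
    have hδN : δ ∈ N := by
      rw [← QuotientGroup.eq_one_iff]
      have : (t' : G ⧸ N) * r = r * t' := by
        show (t : G ⧸ N) * r = r * t
        have hrt' : (r₀ : G ⧸ N) = (t : G ⧸ N) := hrt
        rw [← hrt']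
        show (r₀ : G ⧸ N) * r = r * r₀
        rw [← QuotientGroup.mk_mul, ← QuotientGroup.mk_mul, hab r₀ hr₀ r hr]
      simp only [δ, QuotientGroup.mk_mul, QuotientGroup.mk_inv]
      rw [show ((t : G ⧸ N)) * r = r * t from this]
      group
    have hδ2 : δ ^ 2 = 1 := by
      have h1 : t * (t * r * t⁻¹) * t⁻¹ = r := by
        calc t * (t * r * t⁻¹) * t⁻¹ = t ^ 2 * r * (t ^ 2)⁻¹ := by rw [sq]; group
          _ = r := by rw [hab _ ht2 r hr]; group
      have h2 : t * r * t⁻¹ = r * δ := by simp only [δ]; group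
      rw [h2, show t * (r * δ) * t⁻¹ = (t * r * t⁻¹) * (t * δ * t⁻¹) by group,
        hfix δ hδR hδN, h2, mul_assoc, mul_eq_left] at h1
      rw [sq, h1]
    obtain ⟨g, hg⟩ := IsCyclic.exists_ofOrder_eq_natCard (α := D)
    have hgen : (⟨⟨δ, hδR⟩, (hDN ⟨δ, hδR⟩).2 hδN⟩ : D) ∈ zpowers g := by
      rw [Subgroup.eq_top_of_card_eq (zpowers g) (by rw [Nat.card_zpowers, hg])]
      trivial
    obtain ⟨k, hk⟩ := mem_zpowers_iff.1 hgen
    have hk2 : (4 : ℤ) ∣ k * 2 := by
      refine Int.dvd_trans ?_ (orderOf_dvd_iff_zpow_eq_one.2 (show g ^ (k * 2) = 1 by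
        rw [zpow_mul, hk]
        exact Subtype.ext (Subtype.ext (by simpa using hδ2))))
      rw [hg]
      exact_mod_cast (show 4 ∣ Nat.card D from (show 2 ^ 2 ∣ _ from (Nat.pow_dvd_pow 2 hn).trans hdvd))
    obtain ⟨k', rfl⟩ : (2 : ℤ) ∣ k := by omega
    refine ⟨((g : R) : G) ^ k', R.zpow_mem g.1.2 _, ?_⟩
    have := congrArg (fun z : D => ((z : R) : G)) hk
    simp only [SubgroupClass.coe_zpow] at this
    rw [← zpow_natCast, ← zpow_mul, mul_comm]
    exact this
  · -- `R` is generated by `R ∩ N` and `t²`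
    obtain ⟨g, hg⟩ := IsCyclic.exists_generator (α := G ⧸ N)
    obtain ⟨i, hi⟩ := mem_zpowers_iff.1 (hg t')
    obtain ⟨j, hj⟩ := mem_zpowers_iff.1 (hg (r : G ⧸ N))
    have hrr : (r : G ⧸ N) ∈ zpowers t' := by
      by_contra hcon
      refine htR ?_
      -- in a cyclic 2-group the two cyclic subgroups are comparable
      rcases le_total_zpowers (hG.to_quotient N) t' (r : G ⧸ N) with h | h
      · exact (zpowers_le.2 (mem_map_of_mem (QuotientGroup.mk' N) hr)) h
      · exact absurd h hcon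
    obtain ⟨k, hk⟩ := mem_zpowers_iff.1 hrr
    obtain ⟨k', rfl⟩ : Even k := by
      rcases Int.even_or_odd k with h | ⟨k', rfl⟩
      · exact h
      exfalso
      refine htR ⟨r * (t ^ 2) ^ (-k'), R.mul_mem hr (R.zpow_mem ht2 _), ?_⟩
      simp only [QuotientGroup.mk'_apply, QuotientGroup.mk_mul, QuotientGroup.mk_zpow,
        QuotientGroup.mk_pow]
      rw [← hk]
      show t' ^ (2 * k' + 1) * (t' ^ 2) ^ (-k') = t'
      rw [← zpow_natCast t' 2, ← zpow_mul, ← zpow_add]
      rw [show 2 * k' + 1 + ((2 : ℕ) : ℤ) * -k' = 1 by push_cast; ring, zpow_one]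
    set T := t ^ (k' + k')
    have hTR : T ∈ R := by
      simp only [T]
      rw [← two_mul, zpow_mul]
      exact R.zpow_mem (by exact_mod_cast ht2) _
    set d := r * T⁻¹
    have hdR : d ∈ R := R.mul_mem hr (R.inv_mem hTR)
    have hdN : d ∈ N := by
      rw [← QuotientGroup.eq_one_iff]
      simp only [d, T, QuotientGroup.mk_mul, QuotientGroup.mk_inv, QuotientGroup.mk_zpow]
      rw [← hk]
      exact mul_inv_cancel _
    have hred : r⁻¹ * (t * r * t⁻¹) = d⁻¹ * (t * d * t⁻¹) := by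
      have hr' : r = d * T := by simp [d]
      have hTt : t * T * t⁻¹ = T := by simp only [T]; group
      rw [show t * r * t⁻¹ = (t * d * t⁻¹) * (t * T * t⁻¹) by rw [hr']; group, hTt, hr', mul_inv_rev,
        show T⁻¹ * d⁻¹ * (t * d * t⁻¹ * T) = T⁻¹ * (d⁻¹ * (t * d * t⁻¹) * T) by group,
        hab _ (R.mul_mem (R.inv_mem hdR) (hconjR d hdR)) T hTR]
      group
    obtain ⟨g', hg'⟩ := IsCyclic.exists_ofOrder_eq_natCard (α := D)
    have hgen : ∀ z : D, z ∈ zpowers g' := by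
      intro z
      rw [Subgroup.eq_top_of_card_eq (zpowers g') (by rw [Nat.card_zpowers, hg'])]
      trivial
    obtain ⟨e, he⟩ := mem_zpowers_iff.1 (hgen ⟨⟨d, hdR⟩, (hDN ⟨d, hdR⟩).2 hdN⟩)
    set b : G := ((g' : R) : G)
    have hb : b ∈ R ∧ b ∈ N := ⟨g'.1.2, (hDN g'.1).1 g'.2⟩
    obtain ⟨u, hu⟩ := mem_zpowers_iff.1 (hgen ⟨⟨t * b * t⁻¹, hconjR b hb.1⟩,
      (hDN ⟨_, hconjR b hb.1⟩).2 (‹N.Normal›.conj_mem b hb.2 t)⟩)
    have hu' : b ^ u = t * b * t⁻¹ := by simpa [b] using congrArg (fun z : D => ((z : R) : G)) hu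
    have he' : b ^ e = d := by simpa [b] using congrArg (fun z : D => ((z : R) : G)) he
    have h4 : 2 ^ 2 ∣ orderOf b := by
      rw [show orderOf b = Nat.card D by rw [← hg', ← orderOf_coe, ← orderOf_coe]]
      exact (Nat.pow_dvd_pow 2 hn).trans hdvd
    -- `u` is odd
    obtain ⟨u', rfl⟩ : Odd u := by
      rcases Int.even_or_odd u with ⟨u', rfl⟩ | h
      swap
      · exact h
      exfalso
      have h1 : orderOf (t * b * t⁻¹) = orderOf b :=
        orderOf_injective (MulAut.conj t).toMonoidHom (MulEquiv.injective _) b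
      obtain ⟨c, hc⟩ := (Dvd.intro 2 (by norm_num) : 2 ∣ 2 ^ 2).trans h4
      have h2 : (t * b * t⁻¹) ^ c = 1 := by
        rw [← hu', ← zpow_natCast, ← zpow_mul, ← orderOf_dvd_iff_zpow_eq_one, hc]
        exact ⟨u', by push_cast; ring⟩
      have h3 := orderOf_dvd_of_pow_eq_one h2
      rw [h1, hc] at h3
      have hc0 : 0 < c := by
        rcases Nat.eq_zero_or_pos c with rfl | h0
        · exact absurd (orderOf_pos b) (by omega)
        · exact h0
      exact absurd (Nat.le_of_dvd hc0 h3) (by omega)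
    refine ⟨b ^ (u' * e), R.zpow_mem hb.1 _, ?_⟩
    rw [hred, ← he', ← conj_zpow, ← hu', ← zpow_natCast, ← zpow_mul, ← zpow_mul, ← zpow_neg, ← zpow_add]
    congr 1
    push_cast
    ring

end Cfsg.Agent.FusionMetaTwo
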