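/-
Saturated fusion systems on metacyclic 2-groups.

* `radical_eq_top` : outside dihedral/semidihedral/quaternion every centric radical subgroup is `S`
* `isNormal_two` : so `S` is normal
* `inner_of_normal` : a normal `S` with a `p`-group of automorphisms gives the inner system
* `aut_isPGroup_two` : the automorphism group of such `S` is a 2-group unless `S` is homocyclic
-/
import Cfsg.Agent.Lib.FusionMetaTwo.Group
import Cfsg.Agent.Lib.FusionChain.Radical
import Cfsg.Agent.Lib.FusionChain.StronglyClosed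
import Cfsg.Agent.Lib.RankTwo.Metacyclic
import Cfsg.Agent.Lib.Fusion.Criterion
import Cfsg.Agent.S1896

set_option autoImplicit false

namespace Cfsg.Agent.FusionMetaTwo

open Cfsg Cfsg.FusionSystem Cfsg.Agent.Fusion Cfsg.Agent.FusionChain

theorem quaternion_sq : ∀ x c : QuaternionGroup 2, c ≠ 1 → x ^ 2 = 1 ∨ x ^ 2 = c ∨ x ^ 2 = c ^ 2 := by
  decide

theorem quaternion_central : ∀ x : QuaternionGroup 2, (∀ y, y * x = x * y) → x ^ 2 = 1 := by
  decide

theorem quaternion_not_comm : ∃ x y : QuaternionGroup 2, x * y ≠ y * x := by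
  decide

section Group

variable {G : Type*} [Group G] [Finite G]

theorem not_cyclic_of_quaternion {R : Subgroup G} (e : R ≃* QuaternionGroup 2) : ¬ IsCyclic R := by
  intro h
  obtain ⟨x, y, hxy⟩ := quaternion_not_comm
  exact hxy (e.symm.injective (by rw [map_mul, map_mul, mul_comm']))

/-- A self-centralizing proper quaternion subgroup. -/
theorem classify_quaternion (hG : IsPGroup 2 G) (hm : Cfsg.IsMetacyclic G) (R : Subgroup G)
    (hC : Subgroup.centralizer (R : Set G) ≤ R) (e : R ≃* QuaternionGroup 2) (hne : R ≠ ⊤) :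
    MaxClassTwo G := by
  obtain ⟨N, hN, hNc, hQc⟩ := hm
  haveI := hNc
  haveI := hQc
  obtain ⟨c, hc1, hcN⟩ : ∃ c : R, c ≠ 1 ∧ (c : G) ∈ N := by
    by_contra! h
    refine not_cyclic_of_quaternion e (isCyclic_of_injective ((QuotientGroup.mk' N).comp R.subtype) ?_)
    rw [← MonoidHom.ker_eq_bot_iff, eq_bot_iff]
    intro x hx
    by_contra hx1
    exact h x (fun h1 => hx1 (h1 ▸ Subgroup.one_mem _)) ((QuotientGroup.eq_one_iff (x : G)).1 hx)
  refine classify hG N R (not_cyclic_of_quaternion e) hC (fun x hx => ?_) (fun x hx hcen => ?_) hne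
  · rcases quaternion_sq (e ⟨x, hx⟩) (e c) (fun h => hc1 (e.injective (h.trans e.map_one.symm)))
      with h | h | h
    · rw [← map_pow, ← e.map_one, e.apply_eq_iff_eq] at h
      have h' : x ^ 2 = 1 := congrArg Subtype.val h
      rw [h']
      exact one_mem N
    · rw [← map_pow, e.apply_eq_iff_eq] at h
      have h' : x ^ 2 = c := congrArg Subtype.val h
      rw [h']
      exact hcN
    · rw [← map_pow, ← map_pow, e.apply_eq_iff_eq] at h
      have h' : x ^ 2 = (c : G) ^ 2 := congrArg Subtype.val h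
      rw [h']
      exact pow_mem hcN 2
  · have h := quaternion_central (e ⟨x, hx⟩) fun y => by
      obtain ⟨y, rfl⟩ := e.surjective y
      rw [← map_mul, ← map_mul]
      exact congrArg e (Subtype.ext (hcen y y.2))
    rw [← map_pow, ← e.map_one, e.apply_eq_iff_eq] at h
    exact congrArg Subtype.val h

/-- A self-centralizing proper four-group. -/
theorem classify_four (hG : IsPGroup 2 G) (hm : Cfsg.IsMetacyclic G) (R : Subgroup G)
    (hC : Subgroup.centralizer (R : Set G) ≤ R) (hexp : ∀ x ∈ R, x ^ 2 = 1) (hcard : 2 < Nat.card R)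
    (hne : R ≠ ⊤) : MaxClassTwo G := by
  obtain ⟨N, hN, hNc, hQc⟩ := hm
  haveI := hNc
  haveI := hQc
  refine classify hG N R (fun hcyc => ?_) hC (fun x hx => by rw [hexp x hx]; exact one_mem N)
    (fun x hx _ => hexp x hx) hne
  obtain ⟨g, hg⟩ := IsCyclic.exists_ofOrder_eq_natCard (α := R)
  have := Nat.le_of_dvd two_pos (orderOf_dvd_of_pow_eq_one (Subtype.ext (hexp g g.2) : g ^ 2 = 1))
  omega

theorem exists_sq_mem {P R : Subgroup G} (hG : IsPGroup 2 G) (h : ¬ P ≤ R) :
    ∃ t ∈ P, t ∉ R ∧ t ^ 2 ∈ R := by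
  obtain ⟨g, hg, hgR⟩ := SetLike.not_le_iff_exists.1 h
  obtain ⟨k, hk⟩ := hG g
  induction k generalizing g with
  | zero => exact absurd (by rw [pow_zero, pow_one] at hk; rw [hk]; exact one_mem R) hgR
  | succ k ih =>
    by_cases h2 : g ^ 2 ∈ R
    · exact ⟨g, hg, hgR, h2⟩
    · exact ih (g ^ 2) (pow_mem hg 2) h2 (by rw [← pow_mul, ← pow_succ']; exact hk)

end Group

variable {Ω : Type*} [Group Ω] {S : Subgroup Ω}

theorem mulAut_isPGroup_of_trivial {X : Type*} [Group X] (p : ℕ) (h : ∀ x : X, x = 1) :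
    IsPGroup p (MulAut X) :=
  fun α => ⟨0, MulEquiv.ext fun x => (h _).trans (h _).symm⟩

/-- The automorphism group is a 2-group outside the excluded list. -/
theorem aut_isPGroup_two {X : Type*} [Group X] [Finite X] (hX : IsPGroup 2 X) (hm : Cfsg.IsMetacyclic X)
    (hh : ¬ ∃ n : ℕ, 0 < n ∧ Nonempty (X ≃* Multiplicative (ZMod (2 ^ n)) × Multiplicative (ZMod (2 ^ n))))
    (hx : ¬ MaxClassTwo X) : IsPGroup 2 (MulAut X) := by
  by_contra hA
  rcases S1896.result hX hm hA with he | ⟨n, he⟩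
  · exact hx (Or.inr (Or.inr ⟨2, le_rfl, he⟩))
  · rcases Nat.eq_zero_or_pos n with rfl | hn
    · obtain ⟨e⟩ := he
      refine hA (mulAut_isPGroup_of_trivial 2 fun x => e.injective ?_)
      haveI : Subsingleton (ZMod (2 ^ 0)) := by rw [pow_zero]; infer_instance
      exact Subsingleton.elim _ _
    · exact hh ⟨n, hn, he⟩

variable [Finite S] {F : FusionSystem S}

/-- Outside the excluded list every centric radical subgroup is `S`. -/
theorem radical_eq_top (hS : IsPGroup 2 S) (hm : Cfsg.IsMetacyclic S) (hx : ¬ MaxClassTwo S)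
    {R : Subgroup Ω} (hc : F.IsCentric R) (hr : F.IsRadical 2 R) : R = S := by
  haveI : Fact (Nat.Prime 2) := ⟨Nat.prime_two⟩
  have hRS : R ≤ S := hc.1
  haveI := finite_of_le hRS
  by_cases hA : IsPGroup 2 (F.autGroup R)
  · exact eq_top_of_autS_le_pCore hS hc hr ((autInducedBy_le_autGroup F le_rfl hRS).trans
      (le_pCoreAut hA le_rfl fun α hα k hk => mul_mem (mul_mem hα hk) (inv_mem hα)))
  by_contra hne
  have hCR := centralizerIn_le_of_centric hc
  set R' : Subgroup S := R.subgroupOf S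
  let e : R' ≃* R := Subgroup.subgroupOfEquivOfLe hRS
  have hne' : R' ≠ ⊤ := fun h => hne (le_antisymm hRS (Subgroup.subgroupOf_eq_top.1 h))
  have hC' : Subgroup.centralizer (R' : Set S) ≤ R' := by
    intro g hg
    refine hCR (mem_centralizerIn.2 ⟨g.2, fun x hx => ?_⟩)
    have := congrArg Subtype.val (Subgroup.mem_centralizer_iff.1 hg ⟨x, hRS hx⟩ hx)
    first | exact this | exact this.symm
  rcases S1896.result (hS.to_le hRS)
      (RankTwo.isMetacyclic_of_injective (Subgroup.inclusion hRS) (Subgroup.inclusion_injective hRS) hm)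
      (fun h => hA (h.to_subgroup _)) with hq | ⟨n, ⟨f⟩⟩
  · obtain ⟨f⟩ := hq
    exact hx (classify_quaternion hS hm R' hC' (e.trans f) hne')
  have hcard : Nat.card R' = 2 ^ n * 2 ^ n := by
    rw [Nat.card_congr (e.trans f).toEquiv, Nat.card_prod, Nat.card_congr Multiplicative.toAdd,
      Nat.card_zmod]
  have hexp : ∀ x ∈ R', x ^ (2 ^ n) = 1 := by
    intro x hx'
    have h1 : ∀ z : Multiplicative (ZMod (2 ^ n)), z ^ (2 ^ n) = 1 := fun z =>
      Multiplicative.toAdd.injective (by
        rw [toAdd_pow, nsmul_eq_mul, ZMod.natCast_self, zero_mul]; rfl)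
    have : (⟨x, hx'⟩ : R') ^ (2 ^ n) = 1 := (e.trans f).injective (by
      rw [map_pow, map_one]; exact Prod.ext (h1 _) (h1 _))
    exact congrArg Subtype.val this
  have hab : ∀ x ∈ R', ∀ y ∈ R', x * y = y * x := fun x hx' y hy' =>
    congrArg Subtype.val ((e.trans f).injective
      (show (e.trans f) (⟨x, hx'⟩ * ⟨y, hy'⟩) = (e.trans f) (⟨y, hy'⟩ * ⟨x, hx'⟩) by
        rw [map_mul, map_mul, mul_comm]))
  rcases Nat.lt_trichotomy n 1 with hn | rfl | hn
  · obtain rfl : n = 0 := by omega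
    refine hA ((mulAut_isPGroup_of_trivial 2 fun x => ?_).to_subgroup _)
    haveI : Subsingleton (ZMod (2 ^ 0)) := by rw [pow_zero]; infer_instance
    exact f.injective (Subsingleton.elim _ _)
  · exact hx (classify_four hS hm R' hC' (fun x hx' => by simpa using hexp x hx')
      (by rw [hcard]; norm_num) hne')
  -- an element of order two modulo `R` in its normalizer lies in `O_2`
  obtain ⟨N, hN, hNc, hQc⟩ := hm
  haveI := hNc
  haveI := hQc
  have hnc : NormalizerCondition S := by
    haveI := hS.isNilpotent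
    exact normalizerCondition_of_isNilpotent
  obtain ⟨t, ht, htR, ht2⟩ := exists_sq_mem hS (not_le_of_gt (hnc R' hne'.lt_top))
  have htn : (t : Ω) ∈ normalizerIn S R := by
    refine mem_normalizerIn.2 ⟨t.2, fun x => ⟨fun hx => ?_, fun hx => ?_⟩⟩
    · exact (Subgroup.mem_normalizer_iff.1 ht ⟨x, hRS hx⟩).1 hx
    · have hxS : x ∈ S := by
        have := S.mul_mem (S.mul_mem (S.inv_mem t.2) (hRS hx)) t.2
        simpa [mul_assoc] using this
      exact (Subgroup.mem_normalizer_iff.1 ht ⟨x, hxS⟩).2 hx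
  let α := normConj S R ⟨t, htn⟩
  have hα : α ∈ F.autGroup R := autInducedBy_le_autGroup F le_rfl hRS (range_normConj S R ▸ ⟨_, rfl⟩)
  refine htR (mem_of_mem_pCoreAut hc hr t.2 (α := α) ?_ fun x => normConj_apply _ x)
  letI : CommGroup R := { (inferInstance : Group R) with mul_comm := fun a b => e.symm.injective (by
    rw [map_mul, map_mul]; exact Subtype.ext (hab _ (e.symm a).2 _ (e.symm b).2)) }
  refine mem_pCoreAut_of_chain hS hRS n (fun i => (powMonoidHom (2 ^ (n - i)) : R →* R).range) ?_ ?_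
    ?_ ?_ hα ?_
  · rw [Nat.sub_zero, eq_bot_iff]
    rintro _ ⟨y, rfl⟩
    refine Subgroup.mem_bot.2 (Subtype.ext ?_)
    rw [powMonoidHom_apply, SubmonoidClass.coe_pow]
    exact congrArg Subtype.val (hexp ⟨y, hRS y.2⟩ y.2)
  · refine eq_top_iff.2 fun y _ => ⟨y, ?_⟩
    simp
  · rintro i hi _ ⟨y, rfl⟩
    refine ⟨y ^ 2, ?_⟩
    rw [powMonoidHom_apply, powMonoidHom_apply, ← pow_mul, ← pow_succ']
    congr 2
    omega
  · rintro a - i - _ ⟨y, rfl⟩
    exact ⟨a y, by simp⟩
  · rintro i hi _ ⟨y, rfl⟩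
    obtain ⟨s, hs, hsy⟩ := diff_isSquare hS N hab hn hexp hcard ht ht2 (r := ⟨y, hRS y.2⟩) y.2
    refine ⟨⟨s, hs⟩, ?_⟩
    have hs2 : (⟨s, hs⟩ : R) ^ 2 = y⁻¹ * α y := Subtype.ext (by
      have := congrArg Subtype.val hsy
      simpa [α] using this)
    rw [powMonoidHom_apply, powMonoidHom_apply, map_pow, ← inv_pow, ← mul_pow, ← hs2, ← pow_mul,
      ← pow_succ']
    congr 2
    omega

/-- Outside the excluded list `S` is normal in every saturated system. -/
theorem isNormal_two (hS : IsPGroup 2 S) (hm : Cfsg.IsMetacyclic S) (hx : ¬ MaxClassTwo S)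
    (hF : F.IsSaturated 2) : F.IsNormal S :=
  haveI : Fact (Nat.Prime 2) := ⟨Nat.prime_two⟩
  isNormal_top_of_radicals hS hF fun _ _ hc hr => radical_eq_top hS hm hx hc hr

/-- A normal `S` whose automorphisms form a `p`-group: every map is a conjugation by an element of `S`. -/
theorem inner_of_normal {p : ℕ} [Fact p.Prime] (hS : IsPGroup p S) (hF : F.IsSaturated p)
    (hn : F.IsNormal S) (hA : IsPGroup p (MulAut S)) {P : Subgroup Ω} {f : Ω → Ω} (hf : IsMap F P f) :
    ∃ g ∈ S, ∀ x ∈ P, f x = g * x * g⁻¹ := by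
  obtain ⟨α, hα, he⟩ := exists_top_extension_of_normal hn hf
  have hsyl := (isFullyAutomized_iff.1
    (fullyAutomized_of_fullyNormalized hS hF (isFullyNormalized_self F))).2
  have hαS : α ∈ autInducedBy S S := hsyl.2.2 _ hsyl.le le_rfl (hA.to_subgroup _) ▸ hα
  obtain ⟨g, hg, e⟩ := mem_autInducedBy_iff.1 hαS
  exact ⟨g, hg, fun x hx => by rw [← he x hx (hf.le hx), autFn_apply α (hf.le hx), e]⟩

/-- The inner system is the only one when `S` is normal with a `p`-group of automorphisms. -/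
theorem hom_eq_inner {p : ℕ} [Fact p.Prime] (hS : IsPGroup p S) (hF : F.IsSaturated p)
    (hn : F.IsNormal S) (hA : IsPGroup p (MulAut S)) (P : Subgroup Ω) :
    F.Hom P = (innerFusionSystem S).Hom P := by
  ext φ
  refine ⟨fun hφ => ?_, fun hφ => mem_of_isMap (innerFusionSystem_le F P hφ |> isMap_toFn)
    fun x => (toFn_coe φ x).symm⟩
  obtain ⟨g, hg, e⟩ := inner_of_normal hS hF hn hA (isMap_toFn hφ)
  exact ⟨(F.le_of_mem hφ).1, g, hg, fun x => (toFn_coe φ x).symm.trans (e x x.2)⟩

end Cfsg.Agent.FusionMetaTwo
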