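/-
Automorphisms of order prime to `p` of a non-abelian metacyclic `p`-group, `p` odd.

* `coprime_aut_of_metacyclic` : they form abelian groups of exponent dividing `p - 1`
* `not_repeated` : a metacyclic `p`-group is not `(Z/p^n)^2 × H` unless `H = 1`
-/
import Cfsg.Agent.EqLemmas
import Cfsg.Agent.S1447
import Cfsg.Agent.Lib.RankTwo.Metacyclic
import Mathlib.GroupTheory.SemidirectProduct

set_option autoImplicit false

namespace Cfsg.Agent.FusionMetaTwo

open Subgroup

theorem coprime_aut_of_metacyclic {X : Type*} [Group X] [Finite X] {p : ℕ} [Fact p.Prime] (hp2 : p ≠ 2)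
    (hX : IsPGroup p X) (hm : Cfsg.IsMetacyclic X) (hab : ¬ IsMulCommutative X)
    (H : Subgroup (MulAut X)) (hco : (Nat.card H).Coprime p) :
    IsMulCommutative H ∧ ∀ h ∈ H, h ^ (p - 1) = 1 := by
  have hp : p.Prime := Fact.out
  haveI : Finite (MulAut X) := Finite.of_injective (fun a => (a : X → X)) DFunLike.coe_injective
  rcases eq_or_ne H ⊥ with rfl | hne
  · exact ⟨⟨⟨fun a b => Subsingleton.elim _ _⟩⟩, fun h hh => by rw [mem_bot.1 hh, one_pow]⟩
  let M := SemidirectProduct X H H.subtype
  haveI : Finite M := Finite.of_equiv _ SemidirectProduct.equivProd.symm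
  set R : Subgroup M := (SemidirectProduct.inl : X →* M).range
  set A : Subgroup M := (SemidirectProduct.inr : H →* M).range
  have hiR : Function.Injective (SemidirectProduct.inl : X →* M).rangeRestrict :=
    fun a b h => SemidirectProduct.inl_injective (congrArg Subtype.val h)
  let eR : X ≃* R := MulEquiv.ofBijective _ ⟨hiR, MonoidHom.rangeRestrict_surjective _⟩
  have hA : A ≤ normalizer (R : Set M) := by
    haveI : R.Normal := by
      simp only [R, SemidirectProduct.range_inl_eq_ker_rightHom]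
      infer_instance
    rw [Subgroup.normalizer_eq_top]
    exact le_top
  have hcA : (Nat.card A).Coprime p := by
    rwa [← Nat.card_congr (MonoidHom.ofInjective
      (f := (SemidirectProduct.inr : H →* M)) SemidirectProduct.inr_injective).toEquiv]
  obtain ⟨-, hsup, -, hbig⟩ := S1447.result p hp2 R A (hX.of_equiv eR)
    (RankTwo.isMetacyclic_of_injective eR.symm.toMonoidHom eR.symm.injective hm) hA hcA
  obtain ⟨-, hcyc, -, -, -⟩ := hbig (fun h => hab ⟨⟨fun a b => eR.injective (by
      rw [map_mul, map_mul]; exact h.is_comm.comm _ _)⟩⟩) (by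
    intro hle
    obtain ⟨h, hh, hh1⟩ := (ne_bot_iff_exists_ne_one.1 hne).elim fun h hh => (⟨h.1, h.2, fun h1 =>
      hh (Subtype.ext h1)⟩ : ∃ a, a ∈ H ∧ a ≠ 1)
    refine hh1 (MulEquiv.ext fun x => SemidirectProduct.inl_injective (φ := H.subtype) ?_)
    rw [show (h : MulAut X) x = H.subtype ⟨h, hh⟩ x from rfl, SemidirectProduct.inl_aut]
    have hc := mem_centralizer_iff.1 (hle ⟨⟨h, hh⟩, rfl⟩) (SemidirectProduct.inl x) ⟨x, rfl⟩
    rw [← hc, MulAut.one_apply, map_inv, mul_inv_cancel_right])
  haveI := hcyc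
  set C : Subgroup X := (⁅R, A⁆ : Subgroup M).comap SemidirectProduct.inl
  haveI : IsCyclic C := isCyclic_of_injective
    ((SemidirectProduct.inl : X →* M).subgroupComap ⁅R, A⁆)
    fun a b h => Subtype.ext (SemidirectProduct.inl_injective (congrArg Subtype.val h))
  have hinv : ∀ h ∈ H, ∀ c : X, c ∈ C → (h : MulAut X) c ∈ C := by
    intro h hh c hc
    show SemidirectProduct.inl (H.subtype ⟨h, hh⟩ c) ∈ ⁅R, A⁆
    rw [SemidirectProduct.inl_aut, map_inv]
    exact (mem_normalizer_iff.1 (normalizer_commutator_ge_right R A ⟨⟨h, hh⟩, rfl⟩) _).1 hc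
  let ρ : H →* MulAut C :=
    { toFun := fun h =>
        { toFun := fun c => ⟨(h : MulAut X) c, hinv h h.2 c c.2⟩
          invFun := fun c => ⟨((h⁻¹ : H) : MulAut X) c, hinv _ (h⁻¹).2 c c.2⟩
          left_inv := fun c => Subtype.ext (by simp)
          right_inv := fun c => Subtype.ext (by simp)
          map_mul' := fun a b => Subtype.ext (map_mul (h : MulAut X) (a : X) b) }
      map_one' := MulEquiv.ext fun c => Subtype.ext rfl
      map_mul' := fun a b => MulEquiv.ext fun c => Subtype.ext rfl }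
  have hρ : Function.Injective ρ := by
    rw [injective_iff_map_eq_one]
    intro h hh
    have hRle : ∀ z ∈ R, SemidirectProduct.inr h * z = z * SemidirectProduct.inr h := by
      have h1 : ⁅R, A⁆ ⊔ (R ⊓ centralizer (A : Set M)) ≤ centralizer {SemidirectProduct.inr h} := by
        refine sup_le (fun z hz => mem_centralizer_singleton_iff.2 ?_)
          (fun z hz => mem_centralizer_singleton_iff.2 ?_)
        · obtain ⟨c, rfl⟩ : z ∈ R := by rw [← hsup]; exact mem_sup_left hz
          have h2 : (h : MulAut X) c = c := congrArg (fun a : MulAut C => ((a ⟨c, hz⟩ : C) : X)) hh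
          calc SemidirectProduct.inl c * SemidirectProduct.inr h
              = SemidirectProduct.inl (H.subtype h c) * SemidirectProduct.inr h := by
                rw [show H.subtype h c = c from h2]
            _ = SemidirectProduct.inr h * SemidirectProduct.inl c := by
                rw [SemidirectProduct.inl_aut, map_inv, inv_mul_cancel_right]
        · exact (mem_centralizer_iff.1 hz.2 _ ⟨h, rfl⟩).symm
      rw [hsup] at h1
      exact fun z hz => (mem_centralizer_singleton_iff.1 (h1 hz)).symm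
    refine Subtype.ext (MulEquiv.ext fun x => SemidirectProduct.inl_injective (φ := H.subtype) ?_)
    rw [show (h : MulAut X) x = H.subtype h x from rfl, SemidirectProduct.inl_aut, map_inv,
      hRle _ ⟨x, rfl⟩, mul_inv_cancel_right]
    rfl
  let e := IsCyclic.mulAutMulEquiv C
  have hcomm : ∀ a b : H, a * b = b * a := fun a b => by
    apply hρ
    rw [map_mul, map_mul]
    apply e.injective
    rw [map_mul, map_mul]
    exact mul_comm _ _
  refine ⟨⟨⟨hcomm⟩⟩, fun h hh => ?_⟩
  obtain ⟨k, hk⟩ := (hX.to_subgroup C).exists_card_eq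
  have hcard : Nat.card (MulAut C) ∣ p ^ k * (p - 1) := by
    rw [IsCyclic.card_mulAut, hk]
    rcases k with _ | k
    · simp
    · rw [Nat.totient_prime_pow hp k.succ_pos]
      exact mul_dvd_mul_right (pow_dvd_pow p (Nat.sub_le _ _)) _
  have hord : orderOf (⟨h, hh⟩ : H) ∣ p ^ k * (p - 1) := by
    rw [← orderOf_injective ρ hρ]
    exact (_root_.orderOf_dvd_natCard _).trans hcard
  have hcop : (orderOf (⟨h, hh⟩ : H)).Coprime (p ^ k) :=
    Nat.Coprime.pow_right k (hco.coprime_dvd_left (_root_.orderOf_dvd_natCard _))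
  exact congrArg Subtype.val (orderOf_dvd_iff_pow_eq_one.1 (hcop.dvd_of_dvd_mul_left hord))

/-- A metacyclic group contains no `(Z/p^n)^2 × H` with `p ∣ |H|`. -/
theorem not_repeated {X : Type*} [Group X] [Finite X] {p : ℕ} [Fact p.Prime] (hX : IsPGroup p X)
    (hm : Cfsg.IsMetacyclic X) {n : ℕ} (hn : 0 < n) {H : Type} [CommGroup H]
    (e : X ≃* (Multiplicative (ZMod (p ^ n)) × Multiplicative (ZMod (p ^ n))) × H) :
    Nonempty (X ≃* Multiplicative (ZMod (p ^ n)) × Multiplicative (ZMod (p ^ n))) := by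
  have hp : p.Prime := Fact.out
  haveI : NeZero (p ^ n) := ⟨pow_ne_zero n hp.ne_zero⟩
  haveI : Finite ((Multiplicative (ZMod (p ^ n)) × Multiplicative (ZMod (p ^ n))) × H) :=
    Finite.of_equiv X e.toEquiv
  haveI : Finite H := Finite.of_injective (fun h => ((1, 1), h) : H → (Multiplicative (ZMod (p ^ n)) × Multiplicative (ZMod (p ^ n))) × H) fun a b h => congrArg Prod.snd h
  have hH : ∀ x : H, x = 1 := by
    by_contra! h
    obtain ⟨x, hx⟩ := h
    haveI : Nontrivial H := ⟨⟨x, 1, hx⟩⟩
    have hHp : IsPGroup p H :=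
      (hX.of_equiv e).of_surjective (MonoidHom.snd _ H) Prod.snd_surjective
    obtain ⟨k, hk, hk'⟩ := hHp.nontrivial_iff_card.1 inferInstance
    obtain ⟨y, hy⟩ := exists_prime_orderOf_dvd_card' p (hk' ▸ dvd_pow_self p hk.ne')
    set z : Multiplicative (ZMod (p ^ n)) := Multiplicative.ofAdd ((p ^ (n - 1) : ℕ) : ZMod (p ^ n))
    have hz : orderOf z = p := by
      rw [orderOf_ofAdd_eq_addOrderOf, ZMod.addOrderOf_coe _ (NeZero.ne _),
        Nat.gcd_eq_right (pow_dvd_pow p (Nat.sub_le n 1))]
      conv_lhs => rw [show n = (n - 1) + 1 by omega, pow_succ', Nat.add_sub_cancel]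
      exact Nat.mul_div_cancel _ (pow_pos hp.pos _)
    let Q := ((zpowers z).prod (zpowers z)).prod (zpowers y)
    have hQc : Nat.card Q = p * p * p := by
      rw [Nat.card_congr ((prodEquiv _ _).toEquiv), Nat.card_prod,
        Nat.card_congr ((prodEquiv _ _).toEquiv), Nat.card_prod, Nat.card_zpowers, Nat.card_zpowers,
        hz, hy]
    have hle := RankTwo.card_le_sq_of_exponent (p := p)
      (RankTwo.isMetacyclic_of_injective (e.symm.toMonoidHom.comp Q.subtype)
        (e.symm.injective.comp Subtype.val_injective) hm) (Q := Q) fun q => by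
      obtain ⟨⟨h1, h2⟩, h3⟩ := q.2
      have k1 : ∀ w ∈ zpowers z, w ^ p = 1 := fun w hw =>
        orderOf_dvd_iff_pow_eq_one.1 ((orderOf_dvd_of_mem_zpowers hw).trans hz.dvd)
      exact Subtype.ext (Prod.ext (Prod.ext (k1 _ h1) (k1 _ h2))
        (orderOf_dvd_iff_pow_eq_one.1 ((orderOf_dvd_of_mem_zpowers h3).trans hy.dvd)))
    rw [hQc, sq] at hle
    exact absurd (Nat.le_of_mul_le_mul_left (hle.trans_eq (mul_one _).symm) (Nat.mul_pos hp.pos hp.pos))
      (not_le.2 hp.one_lt)
  haveI : Unique H := ⟨⟨1⟩, hH⟩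
  exact ⟨e.trans MulEquiv.prodUnique⟩

end Cfsg.Agent.FusionMetaTwo
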