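/-
Small non-abelian subgroups of metacyclic 2-groups.

* `maxClass_of_small` : a non-abelian subgroup of exponent 4 with squares in the cyclic normal subgroup
* `maxClass_of_quaternion`, `maxClass_of_moved_four`
-/
import Cfsg.Agent.Lib.FusionMetaTwo.Group

set_option autoImplicit false

namespace Cfsg.Agent.FusionMetaTwo

open Subgroup
open scoped Pointwise

variable {G : Type*} [Group G] [Finite G]

/-- An element of order 2 of a cyclic normal subgroup is central. -/
theorem comm_of_sq (N : Subgroup G) [N.Normal] [IsCyclic N] {z : G} (hz : z ∈ N) (hz2 : z ^ 2 = 1)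
    (g : G) : g * z = z * g := by
  by_cases hz1 : z = 1
  · simp [hz1]
  have h : g * z * g⁻¹ = z := congrArg Subtype.val (eq_of_sq_eq_one
    (a := (⟨g * z * g⁻¹, ‹N.Normal›.conj_mem z hz g⟩ : N)) (b := ⟨z, hz⟩)
    (fun h => hz1 (conj_eq_one_iff.1 (congrArg Subtype.val h)))
    (Subtype.ext (show (g * z * g⁻¹) ^ 2 = 1 by rw [conj_pow, hz2]; group))
    (fun h => hz1 (congrArg Subtype.val h)) (Subtype.ext hz2))
  exact mul_inv_eq_iff_eq_mul.1 h

theorem maxClass_of_small (hG : IsPGroup 2 G) (N : Subgroup G) [N.Normal] [IsCyclic N]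
    [IsCyclic (G ⧸ N)] (D : Subgroup G) (hnc : ∃ u ∈ D, ∃ v ∈ D, u * v ≠ v * u)
    (hsq : ∀ x ∈ D, x ^ 2 ∈ N) (h4 : ∀ x ∈ D, x ^ 4 = 1)
    (hcen : ∀ x ∈ D, (∀ y ∈ D, y * x = x * y) → x ^ 2 = 1) : MaxClassTwo G := by
  obtain ⟨u, hu, v, hv, huv⟩ := hnc
  have hDc : ¬ IsCyclic D := fun h => huv (congrArg Subtype.val (mul_comm' (⟨u, hu⟩ : D) ⟨v, hv⟩))
  obtain ⟨y, hyD, hyN⟩ := SetLike.not_le_iff_exists.1 fun h : D ≤ N =>
    hDc (isCyclic_of_injective (inclusion h) (inclusion_injective h))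
  have hNc : ∀ a ∈ N, ∀ b ∈ N, a * b = b * a := fun a ha b hb =>
    congrArg Subtype.val (mul_comm' (⟨a, ha⟩ : N) ⟨b, hb⟩)
  have hsplit : ∀ x : G, x ^ 2 ∈ N → x ∈ N ∨ y⁻¹ * x ∈ N := by
    intro x hx
    by_cases hxN : x ∈ N
    · exact Or.inl hxN
    refine Or.inr ?_
    rw [← QuotientGroup.eq_one_iff, QuotientGroup.mk_mul, QuotientGroup.mk_inv, inv_mul_eq_one]
    refine eq_of_sq_eq_one (mt (QuotientGroup.eq_one_iff y).1 hyN) ?_
      (mt (QuotientGroup.eq_one_iff x).1 hxN) ?_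
    · rw [← QuotientGroup.mk_pow, QuotientGroup.eq_one_iff]; exact hsq y hyD
    · rw [← QuotientGroup.mk_pow, QuotientGroup.eq_one_iff]; exact hx
  -- generated by `y` and `D ∩ N`
  have habel : (∀ a ∈ D, a ∈ N → y * a = a * y) → False := by
    intro h
    have hy : ∀ w ∈ D, y * w = w * y := by
      intro w hw
      rcases hsplit w (hsq w hw) with hwN | hwN
      · exact h w hw hwN
      · have := h _ (D.mul_mem (D.inv_mem hyD) hw) hwN
        calc y * w = y * (y * (y⁻¹ * w)) := by group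
          _ = y * ((y⁻¹ * w) * y) := by rw [this]
          _ = w * y := by group
    have hall : ∀ a ∈ D, a ∈ N → ∀ b ∈ D, a * b = b * a := by
      intro a ha haN b hb
      rcases hsplit b (hsq b hb) with hbN | hbN
      · exact hNc a haN b hbN
      · calc a * b = a * y * (y⁻¹ * b) := by group
          _ = y * (a * (y⁻¹ * b)) := by rw [← h a ha haN]; group
          _ = y * ((y⁻¹ * b) * a) := by rw [hNc a haN _ hbN]
          _ = b * a := by group
    rcases hsplit u (hsq u hu) with huN | huN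
    · exact huv (hall u hu huN v hv)
    · refine huv ?_
      calc u * v = y * ((y⁻¹ * u) * v) := by group
        _ = y * (v * (y⁻¹ * u)) := by rw [hall _ (D.mul_mem (D.inv_mem hyD) hu) huN v hv]
        _ = v * y * (y⁻¹ * u) := by rw [← hy v hv]; group
        _ = v * u := by group
  obtain ⟨d, hdD, hdN, hd⟩ : ∃ d ∈ D, d ∈ N ∧ d ^ 2 ≠ 1 := by
    by_contra! h
    exact habel fun a ha haN => comm_of_sq N haN (h a ha haN) y
  have hd4 : orderOf d = 4 :=
    orderOf_eq_prime_pow (p := 2) (n := 1) (by simpa using hd) (by simpa using h4 d hdD)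
  have hcenN : ∀ x ∈ D, (∀ w ∈ D, w * x = x * w) → x ∈ N := by
    intro x hx hxc
    rcases hsplit x (hsq x hx) with h | h
    · exact h
    exfalso
    refine habel fun a ha haN => ?_
    calc y * a = x * ((y⁻¹ * x)⁻¹ * a) := by group
      _ = x * (a * (y⁻¹ * x)⁻¹) := by rw [hNc _ (N.inv_mem h) a haN]
      _ = x * a * (x⁻¹ * y) := by group
      _ = a * x * (x⁻¹ * y) := by rw [hxc a ha]
      _ = a * y := by group
  have hdz : ∀ w ∈ N, w ^ 4 = 1 → w ∈ D := by
    intro w hw hw4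
    have h := mem_zpowers_of_orderOf_dvd (a := (⟨d, hdN⟩ : N)) (b := ⟨w, hw⟩) (by
      rw [← orderOf_coe, ← orderOf_coe, hd4]
      exact orderOf_dvd_of_pow_eq_one hw4)
    obtain ⟨k, hk⟩ := mem_zpowers_iff.1 h
    have hk' : d ^ k = w := by simpa using congrArg Subtype.val hk
    exact hk' ▸ D.zpow_mem hdD k
  have hC : centralizer (D : Set G) ≤ D := by
    intro c
    obtain ⟨k, hk⟩ := hG c
    induction k generalizing c with
    | zero =>
      intro _
      rw [pow_zero, pow_one] at hk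
      rw [hk]
      exact one_mem D
    | succ k ih =>
      intro hc
      have hk2 : (c ^ 2) ^ 2 ^ k = 1 := by rw [← pow_mul, ← pow_succ']; exact hk
      have hc2 : c ^ 2 ∈ D := ih hk2 (pow_mem hc 2)
      have hcc : ∀ w ∈ D, w * c ^ 2 = c ^ 2 * w :=
        fun w hw => mem_centralizer_iff.1 (pow_mem hc 2) w hw
      have hc4 : c ^ 4 = 1 := by
        rw [show (4 : ℕ) = 2 * 2 by norm_num, pow_mul]
        exact hcen _ hc2 hcc
      rcases hsplit c (hcenN _ hc2 hcc) with h | h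
      · exact hdz c h hc4
      · have hcomm : Commute y⁻¹ c := Commute.inv_left (mem_centralizer_iff.1 hc y hyD)
        have h1 : y⁻¹ * c ∈ D := hdz _ h (by
          rw [hcomm.mul_pow, hc4, inv_pow, h4 y hyD, inv_one, one_mul])
        simpa using D.mul_mem hyD h1
  exact classify' hG N D hDc hC hsq hcen (Or.inr ⟨u, v, huv⟩)

/-- A four-group moved by an element of order at most 4 normalizing it. -/
theorem maxClass_of_moved_four (hG : IsPGroup 2 G) (N : Subgroup G) [N.Normal] [IsCyclic N]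
    [IsCyclic (G ⧸ N)] (Q : Subgroup G) (hexp : ∀ x ∈ Q, x ^ 2 = 1) {t : G}
    (ht : t ∈ normalizer (Q : Set G)) (ht2 : t ^ 2 ∈ Q) {q : G} (hq : q ∈ Q)
    (hmove : t * q * t⁻¹ ≠ q) : MaxClassTwo G := by
  have hQc : ∀ a ∈ Q, ∀ b ∈ Q, a * b = b * a := by
    intro a ha b hb
    have h := hexp _ (Q.mul_mem ha hb)
    calc a * b = (a * b)⁻¹ := eq_inv_of_mul_eq_one_left (by rwa [← sq])
      _ = b⁻¹ * a⁻¹ := mul_inv_rev a b
      _ = b * a := by
          rw [← eq_inv_of_mul_eq_one_left (show a * a = 1 by rw [← sq]; exact hexp a ha),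
            ← eq_inv_of_mul_eq_one_left (show b * b = 1 by rw [← sq]; exact hexp b hb)]
  have hfixN : ∀ x ∈ Q, t * x * t⁻¹ = x → x ∈ N := by
    intro x hx hfx
    by_contra hxN
    refine hmove ?_
    have key : ∀ w ∈ Q, w ∈ N → t * w * t⁻¹ = w := fun w hw hwN =>
      mul_inv_eq_iff_eq_mul.2 (comm_of_sq N hwN (hexp w hw) t)
    by_cases hqN : q ∈ N
    · exact key q hq hqN
    have h1 : x⁻¹ * q ∈ N := by
      rw [← QuotientGroup.eq_one_iff, QuotientGroup.mk_mul, QuotientGroup.mk_inv, inv_mul_eq_one]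
      refine eq_of_sq_eq_one (mt (QuotientGroup.eq_one_iff x).1 hxN) ?_
        (mt (QuotientGroup.eq_one_iff q).1 hqN) ?_
      · rw [← QuotientGroup.mk_pow, hexp x hx, QuotientGroup.mk_one]
      · rw [← QuotientGroup.mk_pow, hexp q hq, QuotientGroup.mk_one]
    calc t * q * t⁻¹ = (t * x * t⁻¹) * (t * (x⁻¹ * q) * t⁻¹) := by group
      _ = q := by rw [hfx, key _ (Q.mul_mem (Q.inv_mem hx) hq) h1]; group
  set D := Q ⊔ zpowers t
  have hQD : Q ≤ D := le_sup_left
  have htD : t ∈ D := mem_sup_right (mem_zpowers t)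
  have hform : ∀ x ∈ D, x ∈ Q ∨ ∃ a ∈ Q, x = a * t := by
    intro x hx
    have hx' : x ∈ (Q : Set G) * (zpowers t : Set G) := by
      rw [← coe_mul_of_right_le_normalizer_left _ _ (zpowers_le.2 ht)]
      exact hx
    obtain ⟨a, ha, _, ⟨k, rfl⟩, rfl⟩ := hx'
    rcases Int.even_or_odd k with ⟨j, rfl⟩ | ⟨j, rfl⟩
    · left
      refine Q.mul_mem ha ?_
      show t ^ (j + j) ∈ Q
      rw [← two_mul, zpow_mul]
      exact Q.zpow_mem (by exact_mod_cast ht2) j
    · refine Or.inr ⟨a * (t ^ 2) ^ j, Q.mul_mem ha (Q.zpow_mem ht2 j), ?_⟩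
      show a * t ^ (2 * j + 1) = _
      rw [zpow_add, zpow_mul, zpow_one, mul_assoc]
      rw [show (2 : ℤ) = ((2 : ℕ) : ℤ) from rfl, zpow_natCast]
  have hsqQ : ∀ a ∈ Q, (a * t) ^ 2 ∈ Q ∧ t * (a * t) ^ 2 * t⁻¹ = (a * t) ^ 2 := by
    intro a ha
    have hm : (a * t) ^ 2 ∈ Q := by
      rw [sq, show a * t * (a * t) = a * (t * a * t⁻¹) * t ^ 2 by rw [sq]; group]
      exact Q.mul_mem (Q.mul_mem ha ((mem_normalizer_iff.1 ht a).1 ha)) ht2
    refine ⟨hm, ?_⟩
    have hconj : ∀ X : G, t * X * t⁻¹ = a⁻¹ * ((a * t) * X * (a * t)⁻¹) * a := fun X => by group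
    rw [hconj, ((Commute.refl (a * t)).pow_right 2).eq, mul_inv_cancel_right, mul_assoc, ← hQc a ha _ hm]
    group
  refine maxClass_of_small hG N D ⟨t, htD, q, hQD hq, fun h => hmove (mul_inv_eq_iff_eq_mul.2 h)⟩
    (fun x hx => ?_) (fun x hx => ?_) (fun x hx hxc => ?_)
  · rcases hform x hx with h | ⟨a, ha, rfl⟩
    · rw [hexp x h]; exact one_mem N
    · exact hfixN _ (hsqQ a ha).1 (hsqQ a ha).2
  · rcases hform x hx with h | ⟨a, ha, rfl⟩
    · rw [show (4 : ℕ) = 2 * 2 by norm_num, pow_mul, hexp x h, one_pow]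
    · rw [show (4 : ℕ) = 2 * 2 by norm_num, pow_mul, hexp _ (hsqQ a ha).1]
  · rcases hform x hx with h | ⟨a, ha, rfl⟩
    · exact hexp x h
    · exfalso
      refine hmove (mul_inv_eq_iff_eq_mul.2 ?_)
      have h1 := hxc q (hQD hq)
      calc t * q = a⁻¹ * (a * t * q) := by group
        _ = a⁻¹ * (q * (a * t)) := by rw [h1]
        _ = a⁻¹ * (a * q) * t := by rw [hQc a ha q hq]; group
        _ = q * t := by group

end Cfsg.Agent.FusionMetaTwo
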