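/-
A strongly closed metacyclic subgroup of a 2-group is normal in the system unless it is dihedral,
semidihedral or quaternion.

* `le_of_radical`, `isNormal_of_metacyclic_two`
-/
import Cfsg.Agent.Lib.FusionMetaTwo.Radical
import Cfsg.Agent.Lib.FusionMetaTwo.Small

set_option autoImplicit false

namespace Cfsg.Agent.FusionMetaTwo

open scoped Pointwise
open Cfsg Cfsg.FusionSystem Cfsg.Agent.Fusion Cfsg.Agent.FusionChain

variable {Ω : Type*} [Group Ω] {S : Subgroup Ω} [Finite S] {F : FusionSystem S}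

theorem le_of_radical (hS : IsPGroup 2 S) {P : Subgroup Ω} (hP : F.StronglyClosed P)
    (hm : Cfsg.IsMetacyclic P) (hx : ¬ MaxClassTwo P) {R : Subgroup Ω} (hc : F.IsCentric R)
    (hr : F.IsRadical 2 R) : P ≤ R := by
  haveI : Fact (Nat.Prime 2) := ⟨Nat.prime_two⟩
  have hRS : R ≤ S := hc.1
  have hPS : P ≤ S := hP.1
  haveI := finite_of_le hRS
  haveI := finite_of_le hPS
  haveI := finite_mulAut (S := S) hRS
  have hP2 : IsPGroup 2 P := hS.to_le hPS
  by_contra hPR
  -- an element of order two modulo `R` in `N_P(R)`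
  obtain ⟨t, ht, htR', ht2⟩ : ∃ t ∈ (⊤ : Subgroup P) ⊓ (Subgroup.normalizer (R : Set Ω)).subgroupOf P,
      t ∉ R.subgroupOf P ∧ t ^ 2 ∈ R.subgroupOf P := by
    refine exists_sq_mem hP2 fun hle => ?_
    obtain ⟨g, hg, hgR⟩ := SetLike.exists_of_lt (lt_normalizerIn hS (M := R ⊔ P) (sup_le hRS hPS)
      (lt_of_le_of_ne le_sup_left fun h => hPR (h ▸ le_sup_right)))
    have hRn : R ≤ Subgroup.normalizer (P : Set Ω) := fun r hr =>
      Subgroup.mem_normalizer_iff.2 fun x => ⟨fun hx => conj_mem_of_stronglyClosed hP (hRS hr) hx,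
        fun hx => by
          have := conj_mem_of_stronglyClosed hP (S.inv_mem (hRS hr)) hx
          simpa [mul_assoc] using this⟩
    obtain ⟨r, hr, u, hu, rfl⟩ : g ∈ (R : Set Ω) * (P : Set Ω) := by
      rw [← Subgroup.coe_mul_of_left_le_normalizer_right _ _ hRn]
      exact hg.1
    have hun : u ∈ Subgroup.normalizer (R : Set Ω) := by
      have := Subgroup.mul_mem _ (Subgroup.inv_mem _ (Subgroup.le_normalizer hr)) hg.2
      simpa using this
    exact hgR (R.mul_mem hr (hle (show (⟨u, hu⟩ : P) ∈ _ from ⟨trivial, hun⟩)))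
  have htR : (t : Ω) ∉ R := htR'
  have htn : (t : Ω) ∈ normalizerIn S R := ⟨hPS t.2, ht.2⟩
  let α := normConj S R ⟨t, htn⟩
  have hα : α ∈ F.autGroup R := autInducedBy_le_autGroup F le_rfl hRS (range_normConj S R ▸ ⟨_, rfl⟩)
  have key : α ∉ pCoreAut F 2 R := fun h =>
    htR (mem_of_mem_pCoreAut hc hr (hPS t.2) (α := α) h fun x => normConj_apply _ x)
  -- `Q = P ∩ R`
  set Q : Subgroup P := R.subgroupOf P
  set QR : Subgroup R := P.subgroupOf R
  have hQR : ∀ a ∈ F.autGroup R, ∀ x ∈ QR, (a : MulAut R) x ∈ QR := by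
    intro a ha x hx
    show ((a x : R) : Ω) ∈ P
    rw [← autFn_apply a x.2]
    exact isMap_mem_of_stronglyClosed hP (isIso_autFn hRS ha).1 x.2 hx
  have hαQ : ∀ x : R, x⁻¹ * α x ∈ QR := by
    intro x
    show (x : Ω)⁻¹ * ((α x : R) : Ω) ∈ P
    rw [show ((α x : R) : Ω) = (t : Ω) * x * (t : Ω)⁻¹ from normConj_apply _ x,
      show (x : Ω)⁻¹ * ((t : Ω) * x * (t : Ω)⁻¹) = ((x : Ω)⁻¹ * t * x) * (t : Ω)⁻¹ by group]
    refine P.mul_mem ?_ (P.inv_mem t.2)
    simpa using conj_mem_of_stronglyClosed hP (S.inv_mem (hRS x.2)) t.2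
  let eQ : QR ≃* Q :=
    { toFun := fun x => ⟨⟨x.1, x.2⟩, x.1.2⟩
      invFun := fun x => ⟨⟨x.1, x.2⟩, x.1.2⟩
      left_inv := fun x => rfl
      right_inv := fun x => rfl
      map_mul' := fun x y => rfl }
  have htN : t ∈ Subgroup.normalizer (Q : Set P) := Subgroup.mem_normalizer_iff.2 fun x =>
    (Subgroup.mem_normalizer_iff.1 ht.2 (x : Ω))
  by_cases hA : IsPGroup 2 (MulAut QR)
  · -- the automorphisms trivial on `R / Q` form a 2-group
    let K : Subgroup (MulAut R) :=
      { carrier := {a | a ∈ F.autGroup R ∧ ∀ x, x⁻¹ * a x ∈ QR}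
        one_mem' := ⟨one_mem _, fun x => by simp⟩
        mul_mem' := fun {a b} ha hb => ⟨mul_mem ha.1 hb.1, fun x => by
          rw [MulAut.mul_apply, show x⁻¹ * a (b x) = (x⁻¹ * b x) * ((b x)⁻¹ * a (b x)) by group]
          exact QR.mul_mem (hb.2 x) (ha.2 (b x))⟩
        inv_mem' := fun {a} ha => ⟨inv_mem ha.1, fun x => by
          have := QR.inv_mem (ha.2 (a⁻¹ x))
          simpa using this⟩ }
    refine key (le_pCoreAut (K := K) ?_ (fun a ha => ha.1) ?_ ⟨hα, hαQ⟩)
    · refine FusionChain.isPGroup_of_coprime_trivial fun g hg => ?_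
      have hfix : ∀ x ∈ QR, (g : MulAut R) x = x := by
        intro x hx
        have hinv : ∀ y ∈ QR, ((g : MulAut R)⁻¹) y ∈ QR := fun y hy =>
          hQR _ (inv_mem g.2.1) y hy
        let ρ : MulAut QR :=
          { toFun := fun y => ⟨(g : MulAut R) y, hQR _ g.2.1 y y.2⟩
            invFun := fun y => ⟨((g : MulAut R)⁻¹) y, hinv y y.2⟩
            left_inv := fun y => Subtype.ext (by simp)
            right_inv := fun y => Subtype.ext (by simp)
            map_mul' := fun a b => Subtype.ext (map_mul (g : MulAut R) (a : R) b) }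
        have hpow : ∀ (m : ℕ) (y : QR), (((ρ ^ m) y : QR) : R) = ((g : MulAut R) ^ m) y := by
          intro m
          induction m with
          | zero => intro y; rfl
          | succ m ih =>
            intro y
            rw [pow_succ', pow_succ', MulAut.mul_apply, MulAut.mul_apply, ← ih]
            rfl
        have hd : orderOf ρ ∣ orderOf g := orderOf_dvd_of_pow_eq_one (MulEquiv.ext fun y =>
          Subtype.ext (by
            rw [hpow, ← SubmonoidClass.coe_pow, pow_orderOf_eq_one]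
            rfl))
        obtain ⟨k, hk⟩ := IsPGroup.iff_orderOf.1 hA ρ
        have h1 : orderOf ρ = 1 := Nat.eq_one_of_dvd_coprimes (hg.pow_right k) hd hk.dvd
        exact congrArg Subtype.val (DFunLike.congr_fun (orderOf_eq_one_iff.1 h1) ⟨x, hx⟩)
      refine Subtype.ext (MulEquiv.ext fun x => ?_)
      exact eq_self_of_stab (hS.to_le hRS) (g : MulAut R) (by rwa [Subgroup.orderOf_coe]) QR hfix x
        (g.2.2 x)
    · intro a ha k hk
      refine ⟨mul_mem (mul_mem ha hk.1) (inv_mem ha), fun x => ?_⟩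
      have h1 := hQR a ha _ (hk.2 (a⁻¹ x))
      simpa using h1
  obtain ⟨N, hN, hNc, hQc⟩ := id hm
  haveI := hNc
  haveI := hQc
  rcases S1896.result ((hS.to_le hRS).to_subgroup QR)
      (RankTwo.isMetacyclic_of_injective (Q.subtype.comp eQ.toMonoidHom)
        (Subtype.val_injective.comp eQ.injective) hm) hA with hq | ⟨n, ⟨f⟩⟩
  · obtain ⟨f⟩ := hq
    exact hx (maxClass_of_quaternion hP2 N Q (eQ.symm.trans f))
  let g : Q ≃* _ := eQ.symm.trans f
  have hab : ∀ a ∈ Q, ∀ b ∈ Q, a * b = b * a := fun a ha b hb =>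
    congrArg Subtype.val (g.injective
      (show g (⟨a, ha⟩ * ⟨b, hb⟩) = g (⟨b, hb⟩ * ⟨a, ha⟩) by rw [map_mul, map_mul, mul_comm]))
  have hexp : ∀ a ∈ Q, a ^ (2 ^ n) = 1 := by
    intro a ha
    have h1 : ∀ z : Multiplicative (ZMod (2 ^ n)), z ^ (2 ^ n) = 1 := fun z =>
      Multiplicative.toAdd.injective (by
        rw [toAdd_pow, nsmul_eq_mul, ZMod.natCast_self, zero_mul]; rfl)
    have : (⟨a, ha⟩ : Q) ^ (2 ^ n) = 1 := g.injective (by
      rw [map_pow, map_one]; exact Prod.ext (h1 _) (h1 _))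
    exact congrArg Subtype.val this
  have hcard : Nat.card Q = 2 ^ n * 2 ^ n := by
    rw [Nat.card_congr g.toEquiv, Nat.card_prod, Nat.card_congr Multiplicative.toAdd, Nat.card_zmod]
  -- a chain stabilized by `α`
  suffices hsq : ∀ y ∈ Q, ∃ s ∈ Q, s ^ 2 = y⁻¹ * (t * y * t⁻¹) by
    letI : CommGroup QR := { (inferInstance : Group QR) with
      mul_comm := fun a b => eQ.injective (by
        rw [map_mul, map_mul]; exact Subtype.ext (hab _ (eQ a).2 _ (eQ b).2)) }
    let U : ℕ → Subgroup R := fun i => if i ≤ n then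
      ((powMonoidHom (2 ^ (n - i)) : QR →* QR).range).map QR.subtype else ⊤
    refine key (mem_pCoreAut_of_chain hS hRS (n + 1) U ?_ ?_ ?_ ?_ hα ?_)
    · simp only [U, Nat.zero_le, if_true, Nat.sub_zero, eq_bot_iff]
      rintro _ ⟨_, ⟨y, rfl⟩, rfl⟩
      refine Subgroup.mem_bot.2 (Subtype.ext ?_)
      have h1 := congrArg Subtype.val (hexp _ (eQ y).2)
      simp only [SubmonoidClass.coe_pow, powMonoidHom_apply, Subgroup.coe_subtype] at h1 ⊢
      exact h1
    · simp only [U, Nat.not_succ_le_self, if_false]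
    · intro i hi
      rcases eq_or_lt_of_le (Nat.lt_succ_iff.1 hi) with rfl | hi'
      · simp [U]
      simp only [U, hi'.le, Nat.succ_le_of_lt hi', if_true]
      rintro _ ⟨_, ⟨y, rfl⟩, rfl⟩
      refine ⟨_, ⟨y ^ 2, rfl⟩, ?_⟩
      rw [powMonoidHom_apply, powMonoidHom_apply, ← pow_mul, ← pow_succ']
      congr 3
      omega
    · intro a ha i hi x hx'
      by_cases hin : i ≤ n
      swap
      · simp [U, hin]
      simp only [U, hin, if_true] at hx' ⊢
      obtain ⟨_, ⟨y, rfl⟩, rfl⟩ := hx'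
      exact ⟨_, ⟨⟨a y, hQR a ha y y.2⟩, rfl⟩, by simp⟩
    · intro i hi x hx'
      rcases eq_or_lt_of_le (Nat.lt_succ_iff.1 hi) with rfl | hi'
      · simp only [U, le_rfl, if_true, Nat.sub_self]
        exact ⟨⟨_, hαQ x⟩, ⟨⟨_, hαQ x⟩, by simp⟩, rfl⟩
      simp only [U, hi'.le, Nat.succ_le_of_lt hi', if_true] at hx' ⊢
      obtain ⟨_, ⟨y, rfl⟩, rfl⟩ := hx'
      obtain ⟨s, hs, hsy⟩ := hsq _ (eQ y).2
      refine ⟨_, ⟨eQ.symm ⟨s, hs⟩, rfl⟩, ?_⟩
      have hs2 : ((eQ.symm ⟨s, hs⟩ : QR) : R) ^ 2 = (y : R)⁻¹ * α (y : R) := Subtype.ext (by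
        have := congrArg Subtype.val hsy
        simpa [α, eQ] using this)
      have hc : Commute (y : R)⁻¹ (α (y : R)) :=
        congrArg Subtype.val (mul_comm y⁻¹ (⟨α y, hQR α hα y y.2⟩ : QR))
      simp only [Subgroup.coe_subtype, powMonoidHom_apply, SubmonoidClass.coe_pow, map_pow, ← inv_pow,
        ← hc.mul_pow, ← hs2, ← pow_mul, ← pow_succ']
      congr 2
      omega
  intro y hy
  rcases Nat.lt_trichotomy n 1 with hn | rfl | hn
  · obtain rfl : n = 0 := by omega
    have h1 : ∀ a ∈ Q, a = 1 := fun a ha => by simpa using hexp a ha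
    refine ⟨1, one_mem Q, ?_⟩
    rw [h1 y hy]
    simp
  · refine ⟨1, one_mem Q, ?_⟩
    rw [one_pow, eq_comm, inv_mul_eq_one, eq_comm]
    by_contra hmove
    exact hx (maxClass_of_moved_four hP2 N Q (fun a ha => by simpa using hexp a ha) htN ht2 hy hmove)
  · exact diff_isSquare hP2 N hab hn hexp hcard htN ht2 hy
where
  maxClass_of_quaternion {G : Type _} [Group G] [Finite G] (hG : IsPGroup 2 G) (N : Subgroup G)
      [N.Normal] [IsCyclic N] [IsCyclic (G ⧸ N)] (D : Subgroup G) (e : D ≃* QuaternionGroup 2) :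
      MaxClassTwo G := by
    have hq4 : ∀ x : QuaternionGroup 2, x ^ 4 = 1 := by decide
    obtain ⟨u, v, huv⟩ := quaternion_not_comm
    refine maxClass_of_small hG N D ⟨e.symm u, (e.symm u).2, e.symm v, (e.symm v).2, fun h => huv
      (e.symm.injective (by rw [map_mul, map_mul]; exact Subtype.ext h))⟩ (fun x hx => ?_)
      (fun x hx => ?_) (fun x hx hcen => ?_)
    · obtain ⟨c, hc1, hcN⟩ : ∃ c : D, c ≠ 1 ∧ (c : G) ∈ N := by
        by_contra! h
        refine not_cyclic_of_quaternion e (isCyclic_of_injective ((QuotientGroup.mk' N).comp D.subtype) ?_)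
        rw [← MonoidHom.ker_eq_bot_iff, eq_bot_iff]
        intro w hw
        by_contra hw1
        exact h w (fun h1 => hw1 (h1 ▸ Subgroup.one_mem _)) ((QuotientGroup.eq_one_iff (w : G)).1 hw)
      rcases quaternion_sq (e ⟨x, hx⟩) (e c) (fun h => hc1 (e.injective (h.trans e.map_one.symm)))
        with h | h | h
      · rw [← map_pow, ← e.map_one, e.apply_eq_iff_eq] at h
        rw [show x ^ 2 = 1 from congrArg Subtype.val h]
        exact one_mem N
      · rw [← map_pow, e.apply_eq_iff_eq] at h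
        rw [show x ^ 2 = c from congrArg Subtype.val h]
        exact hcN
      · rw [← map_pow, ← map_pow, e.apply_eq_iff_eq] at h
        rw [show x ^ 2 = (c : G) ^ 2 from congrArg Subtype.val h]
        exact pow_mem hcN 2
    · exact congrArg Subtype.val (e.injective ((map_pow e ⟨x, hx⟩ 4).trans ((hq4 _).trans e.map_one.symm)))
    · have h := quaternion_central (e ⟨x, hx⟩) fun w => by
        obtain ⟨w, rfl⟩ := e.surjective w
        rw [← map_mul, ← map_mul]
        exact congrArg e (Subtype.ext (hcen w w.2))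
      rw [← map_pow, ← e.map_one, e.apply_eq_iff_eq] at h
      exact congrArg Subtype.val h

theorem isNormal_of_metacyclic_two (hS : IsPGroup 2 S) (hF : F.IsSaturated 2) {P : Subgroup Ω}
    (hP : F.StronglyClosed P) (hm : Cfsg.IsMetacyclic P) (hx : ¬ MaxClassTwo P) : F.IsNormal P := by
  haveI : Fact (Nat.Prime 2) := ⟨Nat.prime_two⟩
  refine isNormal_of_radicals hS hF hP.1 fun R _ hc hr => ?_
  have hle := le_of_radical hS hP hm hx hc hr
  exact ⟨hle, fun α hα q hq =>
    isMap_mem_of_stronglyClosed hP (isIso_autFn hc.1 hα).1 (hle hq) hq⟩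

end Cfsg.Agent.FusionMetaTwo
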